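import Mathlib
import Groth.Prelude.Def_AdFn
import Groth.Agent.Lib.Helper2.FunFld.StrongApprox

set_option autoImplicit false
universe u

namespace Groth.Agent.Lib.Helper2.AdFnL

variable {k K : Type u} [Field k] [Field K] [Algebra k K]

theorem denseRange_toKv (v : FunFld.Place k K) : DenseRange (AdFn.toKv v) := by
  have h1 : DenseRange ((↑) : WithVal v.1 → v.1.Completion) :=
    UniformSpace.Completion.denseRange_coe
  have h2 : Set.range (AdFn.toKv v) = Set.range ((↑) : WithVal v.1 → v.1.Completion) := by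
    ext y
    constructor
    · rintro ⟨x, rfl⟩
      exact ⟨WithVal.toVal v.1 x, rfl⟩
    · rintro ⟨x, rfl⟩
      exact ⟨WithVal.ofVal x, rfl⟩
  unfold DenseRange
  rw [h2]
  exact h1

theorem exists_approx (v : FunFld.Place k K) (a : AdFn.Kv v) :
    ∃ x : K, a - AdFn.toKv v x ∈ AdFn.Ov v := by
  have hopen : IsOpen {b : AdFn.Kv v | a - b ∈ AdFn.Ov v} :=
    (AdFn.isOpen_Ov v).preimage (continuous_const.sub continuous_id)
  have hne : ({b : AdFn.Kv v | a - b ∈ AdFn.Ov v}).Nonempty := ⟨a, by simp [zero_mem]⟩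
  obtain ⟨x, hx⟩ := (denseRange_toKv v).exists_mem_open hopen hne
  exact ⟨x, hx⟩

end Groth.Agent.Lib.Helper2.AdFnL
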