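import Mathlib
import Groth.Prelude.Def_AdFn
import Groth.Agent.Lib.Helper2.AdFn.Dense
import Groth.Agent.Lib.Helper2.FunFld.H1

set_option autoImplicit false
universe u

namespace Groth.Agent.Lib.Helper2.AdFnL

variable {k K : Type u} [Field k] [Field K] [Algebra k K]

/-- the submodule `O_{P} + O_P` of `K_P` -/
noncomputable abbrev NP (P : FunFld.Place k K) : Submodule k (AdFn.Kv P) :=
  Subalgebra.toSubmodule ((AdFn.SInt ({P} : Set (FunFld.Place k K))).map
      (IsScalarTower.toAlgHom k K (AdFn.Kv P))) ⊔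
    Submodule.span k (AdFn.Ov P : Set (AdFn.Kv P))

theorem smul_mem_Ov (P : FunFld.Place k K) (c : k) (y : AdFn.Kv P) (hy : y ∈ AdFn.Ov P) :
    c • y ∈ AdFn.Ov P := by
  rw [Algebra.smul_def]
  refine mul_mem ?_ hy
  rw [IsScalarTower.algebraMap_apply k K (AdFn.Kv P)]
  change AdFn.toKv P (algebraMap k K c) ∈ AdFn.Ov P
  rw [AdFn.toKv_mem_Ov]
  exact P.2.1 c

theorem span_Ov (P : FunFld.Place k K) :
    (Submodule.span k (AdFn.Ov P : Set (AdFn.Kv P)) : Set (AdFn.Kv P)) = AdFn.Ov P := by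
  apply le_antisymm
  · intro y hy
    refine Submodule.span_induction (p := fun y _ => y ∈ AdFn.Ov P) (fun y hy => hy)
      (zero_mem _) (fun a b _ _ ha hb => add_mem ha hb) (fun c a _ ha => smul_mem_Ov P c a ha) hy
  · exact Submodule.subset_span

/-- the map `K → K_P / (O_{P} + O_P)` -/
noncomputable def gapMap (P : FunFld.Place k K) : K →ₗ[k] (AdFn.Kv P ⧸ NP P) :=
  (NP P).mkQ ∘ₗ (IsScalarTower.toAlgHom k K (AdFn.Kv P)).toLinearMap

theorem gapMap_surjective (P : FunFld.Place k K) : Function.Surjective (gapMap P) := by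
  intro y
  obtain ⟨y, rfl⟩ := Submodule.Quotient.mk_surjective _ y
  obtain ⟨x, hx⟩ := exists_approx P y
  refine ⟨x, ?_⟩
  change Submodule.Quotient.mk (AdFn.toKv P x) = Submodule.Quotient.mk y
  rw [eq_comm, Submodule.Quotient.eq]
  exact Submodule.mem_sup_right (Submodule.subset_span hx)

theorem ker_gapMap (P : FunFld.Place k K) :
    LinearMap.ker (gapMap P) =
      Subalgebra.toSubmodule (AdFn.SInt ({P} : Set (FunFld.Place k K))) ⊔
        Subalgebra.toSubmodule (AdFn.SInt (({P} : Set (FunFld.Place k K))ᶜ)) := by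
  ext x
  rw [LinearMap.mem_ker]
  change Submodule.Quotient.mk (AdFn.toKv P x) = 0 ↔ _
  rw [Submodule.Quotient.mk_eq_zero, Submodule.mem_sup, Submodule.mem_sup]
  constructor
  · rintro ⟨y, ⟨s, hs, rfl⟩, z, hz, hyz⟩
    have hz' : z ∈ AdFn.Ov P := by
      have : z ∈ (Submodule.span k (AdFn.Ov P : Set (AdFn.Kv P)) : Set (AdFn.Kv P)) := hz
      rwa [span_Ov] at this
    refine ⟨s, hs, x - s, ?_, by ring⟩
    change x - s ∈ AdFn.SInt (({P} : Set (FunFld.Place k K))ᶜ)
    rw [AdFn.mem_SInt]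
    intro v hv
    have hvP : v = P := by
      simpa using hv
    subst hvP
    rw [← AdFn.toKv_mem_Ov, map_sub]
    have : z = AdFn.toKv v x - AdFn.toKv v s := by
      rw [← hyz]
      change z = (IsScalarTower.toAlgHom k K (AdFn.Kv v)) s + z - AdFn.toKv v s
      simp
    rw [← this]
    exact hz'
  · rintro ⟨s, hs, t, ht, rfl⟩
    refine ⟨AdFn.toKv P s, ⟨s, hs, rfl⟩, AdFn.toKv P t, ?_, (map_add _ _ _).symm⟩
    apply Submodule.subset_span
    change AdFn.toKv P t ∈ AdFn.Ov P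
    rw [AdFn.toKv_mem_Ov]
    exact ht P (by simp)

theorem gap_main (hK : FunFld.IsFunctionField k K) (P : FunFld.Place k K) :
    FiniteDimensional k (AdFn.Kv P ⧸ NP P) ∧
      Module.finrank k (AdFn.Kv P ⧸ NP P) = FunFld.genus k K := by
  obtain ⟨h1, h2⟩ := Groth.Agent.Lib.Helper2.FF.H1.main hK P
  have e : (K ⧸ (Subalgebra.toSubmodule (AdFn.SInt ({P} : Set (FunFld.Place k K))) ⊔
        Subalgebra.toSubmodule (AdFn.SInt (({P} : Set (FunFld.Place k K))ᶜ)))) ≃ₗ[k]
      (AdFn.Kv P ⧸ NP P) :=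
    (Submodule.quotEquivOfEq _ _ (ker_gapMap P).symm).trans
      (LinearMap.quotKerEquivOfSurjective _ (gapMap_surjective P))
  refine ⟨Module.Finite.equiv e, ?_⟩
  rw [← e.finrank_eq]
  exact h2

end Groth.Agent.Lib.Helper2.AdFnL
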